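import Mathlib
import Groth.Prelude.Def_SGA4hB

/-!
# The generating series of traces on symmetric tensors
-/

set_option autoImplicit false

universe u v

open TensorProduct PiTensorProduct Module

namespace Groth.Agent.SymTraceLib

noncomputable section

variable {ι : Type v} [Fintype ι] [DecidableEq ι] {n : ℕ}

/-- The multiset of values of a tuple. -/
def cls (g : Fin n → ι) : Sym ι n :=
  ⟨Finset.univ.val.map g, by simp⟩

omit [Fintype ι] in
theorem cls_eq_iff (g h : Fin n → ι) : cls g = cls h ↔ ∃ σ : Equiv.Perm (Fin n), h = g ∘ σ := by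
  constructor
  · intro e
    have hc : ∀ a, Fintype.card {x // h x = a} = Fintype.card {x // g x = a} := fun a => by
      rw [Fintype.card_subtype, Fintype.card_subtype]
      have := congrArg (fun m : Sym ι n => Multiset.count a m.1) e
      simp only [cls, Multiset.count_map] at this
      simpa [Finset.card_def, Finset.filter_val, eq_comm] using this.symm
    refine ⟨Equiv.ofFiberEquiv (fun a => Fintype.equivOfCardEq (hc a)), funext fun x => ?_⟩
    exact (Equiv.ofFiberEquiv_map _ x).symm
  · rintro ⟨σ, rfl⟩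
    apply Sym.ext
    show Finset.univ.val.map g = Finset.univ.val.map (g ∘ σ)
    rw [← Multiset.map_map]
    congr 1
    show Finset.univ.val = (Finset.univ.map σ.toEmbedding).val
    rw [Finset.map_univ_equiv]

omit [Fintype ι] [DecidableEq ι] in
theorem cls_surjective (μ : Sym ι n) : ∃ g : Fin n → ι, cls g = μ := by
  have hl : μ.1.toList.length = n := by rw [Multiset.length_toList]; exact μ.2
  refine ⟨fun i => μ.1.toList.get (i.cast hl.symm), Sym.ext ?_⟩
  show Multiset.map _ (Finset.univ : Finset (Fin n)).val = μ.1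
  rw [Fin.univ_val_map]
  conv_rhs => rw [← Multiset.coe_toList μ.1]
  congr 1
  apply List.ext_getElem <;> simp [hl]

/-- A chosen representative. -/
def sec (μ : Sym ι n) : Fin n → ι := (cls_surjective μ).choose

omit [Fintype ι] [DecidableEq ι] in
theorem cls_sec (μ : Sym ι n) : cls (sec μ) = μ := (cls_surjective μ).choose_spec

variable {A : Type u} [CommRing A]

/-- The trace on symmetric tensors, written on matrices. -/
def T (n : ℕ) (U : Matrix ι ι A) : A :=
  ∑ μ : Sym ι n, ∑ g : Fin n → ι, if cls g = μ then ∏ i, U (sec μ i) (g i) else 0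

theorem map_T {B : Type*} [CommRing B] (φ : A →+* B) (U : Matrix ι ι A) :
    φ (T n U) = T n (U.map φ) := by
  simp [T, map_sum, apply_ite φ, map_prod]

variable {M : Type u} [AddCommGroup M] [Module A M]

/-- The symmetric tensors. -/
abbrev SymT (A : Type u) [CommRing A] (M : Type u) [AddCommGroup M] [Module A M] (n : ℕ) :
    Submodule A (⨂[A] _i : Fin n, M) :=
  ⨅ σ : Equiv.Perm (Fin n),
    LinearMap.eqLocus ((PiTensorProduct.reindex A (fun _ : Fin n => M) σ).toLinearMap) LinearMap.id

theorem repr_reindex (b : Basis ι A M) (σ : Equiv.Perm (Fin n)) (x : ⨂[A] _i : Fin n, M) (g : Fin n → ι) :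
    (Basis.piTensorProduct fun _ => b).repr (PiTensorProduct.reindex A (fun _ : Fin n => M) σ x) g =
      (Basis.piTensorProduct fun _ => b).repr x (g ∘ σ) := by
  induction x using PiTensorProduct.induction_on with
  | smul_tprod r f =>
    simp only [map_smul, reindex_tprod, Finsupp.smul_apply, Basis.piTensorProduct_repr_tprod_apply]
    congr 1
    exact (Fintype.prod_equiv σ _ _ (fun i => by simp)).symm
  | add x y hx hy => simp [hx, hy]

theorem mem_symT_iff (b : Basis ι A M) (x : ⨂[A] _i : Fin n, M) :
    x ∈ SymT A M n ↔ ∀ g h : Fin n → ι, cls g = cls h →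
      (Basis.piTensorProduct fun _ => b).repr x g = (Basis.piTensorProduct fun _ => b).repr x h := by
  simp only [SymT, Submodule.mem_iInf, LinearMap.mem_eqLocus, LinearEquiv.coe_coe, LinearMap.id_apply]
  constructor
  · intro hx g h e
    obtain ⟨σ, rfl⟩ := (cls_eq_iff g h).1 e
    rw [← repr_reindex b σ x g, hx σ]
  · intro hx σ
    apply (Basis.piTensorProduct fun _ => b).repr.injective
    ext g
    rw [repr_reindex]
    exact (hx g (g ∘ σ) ((cls_eq_iff g _).2 ⟨σ, rfl⟩)).symm

/-- Coordinates of a symmetric tensor. -/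
def coord (b : Basis ι A M) (n : ℕ) : SymT A M n ≃ₗ[A] (Sym ι n → A) where
  toFun x μ := (Basis.piTensorProduct fun _ => b).repr x.1 (sec μ)
  map_add' x y := by ext μ; simp
  map_smul' r x := by ext μ; simp
  invFun c := ⟨∑ g : Fin n → ι, c (cls g) • (Basis.piTensorProduct fun _ => b) g, by
    rw [mem_symT_iff b]
    intro g h e
    rw [Basis.repr_sum_self, e]⟩
  left_inv x := by
    apply Subtype.ext
    apply (Basis.piTensorProduct fun _ => b).repr.injective
    ext g
    rw [Basis.repr_sum_self]
    exact (mem_symT_iff b x.1).1 x.2 _ _ (cls_sec _)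
  right_inv c := by
    ext μ
    simp only [Basis.repr_sum_self, cls_sec]

theorem trace_eq_T (b : Basis ι A M) (f : M →ₗ[A] M) (γ : SymT A M n →ₗ[A] SymT A M n)
    (hγ : ∀ x : SymT A M n, (γ x : ⨂[A] _i : Fin n, M) = PiTensorProduct.map (fun _ : Fin n => f) x.1) :
    LinearMap.trace A _ γ = T n (LinearMap.toMatrix b b f) := by
  classical
  rw [LinearMap.trace_eq_matrix_trace A (Basis.ofEquivFun (coord b n)) γ, Matrix.trace, T]
  refine Finset.sum_congr rfl fun μ _ => ?_
  rw [Matrix.diag_apply, LinearMap.toMatrix_apply, Basis.ofEquivFun_repr_apply, Basis.coe_ofEquivFun]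
  show (Basis.piTensorProduct fun _ => b).repr (γ ((coord b n).symm (Pi.single μ 1))).1 (sec μ) = _
  rw [hγ]
  show (Basis.piTensorProduct fun _ => b).repr
    (PiTensorProduct.map (fun _ : Fin n => f)
      (∑ g : Fin n → ι, (Pi.single μ (1 : A) : Sym ι n → A) (cls g) • (Basis.piTensorProduct fun _ => b) g))
    (sec μ) = _
  simp only [map_sum, map_smul, Finsupp.coe_finsetSum, Finset.sum_apply, Finsupp.smul_apply,
    Basis.piTensorProduct_apply, PiTensorProduct.map_tprod, Basis.piTensorProduct_repr_tprod_apply,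
    LinearMap.toMatrix_apply, smul_eq_mul, Pi.single_apply, ite_mul, one_mul, zero_mul]

theorem exists_gamma (f : M →ₗ[A] M) : ∃ γ : SymT A M n →ₗ[A] SymT A M n,
    ∀ x : SymT A M n, (γ x : ⨂[A] _i : Fin n, M) = PiTensorProduct.map (fun _ : Fin n => f) x.1 := by
  refine ⟨(PiTensorProduct.map (fun _ : Fin n => f)).restrict (p := SymT A M n) (q := SymT A M n) ?_, fun x => rfl⟩
  intro x hx
  simp only [SymT, Submodule.mem_iInf, LinearMap.mem_eqLocus, LinearEquiv.coe_coe, LinearMap.id_apply] at hx ⊢
  intro σ
  rw [← map_reindex (fun _ : Fin n => f) σ x, hx σ]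

theorem detOneSub_eq (b : Basis ι A M) (f : M →ₗ[A] M) :
    SGA4h.detOneSub (ModuleCat.of A M) (ModuleCat.ofHom f) = (LinearMap.toMatrix b b f).charpolyRev := by
  show LinearMap.det (LinearMap.id - (Polynomial.X : Polynomial A) • f.baseChange (Polynomial A)) = _
  rw [Matrix.charpolyRev,
    ← LinearMap.det_toMatrix (Algebra.TensorProduct.basis (Polynomial A) b)]
  congr 1
  apply Matrix.ext
  intro i j
  by_cases h : i = j <;>
    simp [LinearMap.toMatrix_apply, Algebra.TensorProduct.basis_apply, Algebra.TensorProduct.basis_repr_tmul,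
      h, Finsupp.single_apply, Polynomial.C_eq_algebraMap]

theorem exists_lowerTriangular {K : Type*} [Field K] [IsAlgClosed K] :
    ∀ (m : ℕ) (V : Type*) [AddCommGroup V] [Module K V] [FiniteDimensional K V] (_ : finrank K V = m)
      (f : V →ₗ[K] V), ∃ b : Basis (Fin m) K V, ∀ i j, i < j → LinearMap.toMatrix b b f i j = 0
  | 0, V, _, _, _, hm, f => ⟨(finBasisOfFinrankEq K V hm), fun i => i.elim0⟩
  | m + 1, V, _, _, _, hm, f => by
    haveI : Nontrivial V := Module.nontrivial_of_finrank_eq_succ hm
    haveI : Nontrivial (Dual K V) := Module.nontrivial_of_finrank_eq_succ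
      (show finrank K (Dual K V) = m + 1 by rw [Subspace.dual_finrank_eq, hm])
    obtain ⟨c, hc⟩ := Module.End.exists_eigenvalue (K := K) (f.dualMap : Module.End K (Dual K V))
    obtain ⟨φ, hφ⟩ := hc.exists_hasEigenvector
    have hφe : ∀ x, φ (f x) = c * φ x := fun x => LinearMap.congr_fun hφ.apply_eq_smul x
    obtain ⟨v, hv⟩ : ∃ v, φ v ≠ 0 := by
      by_contra h
      push_neg at h
      exact hφ.2 (LinearMap.ext h)
    have hW : finrank K (LinearMap.ker φ) = m := by
      have h2 : LinearMap.range φ = ⊤ := LinearMap.range_eq_top.2 fun y =>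
        ⟨(y / φ v) • v, by simp [hv]⟩
      have h1 := φ.finrank_range_add_finrank_ker
      rw [h2, finrank_top, Module.finrank_self, hm] at h1
      omega
    obtain ⟨b', hb'⟩ := exists_lowerTriangular m (LinearMap.ker φ) hW
      (f.restrict (p := LinearMap.ker φ) (q := LinearMap.ker φ) (fun x hx => by
        simp only [LinearMap.mem_ker] at hx ⊢
        rw [hφe, hx, mul_zero]))
    let b := Basis.mkFinCons v b'
      (fun c' x hx hz => by
        have := congrArg φ hz
        rw [map_add, LinearMap.mem_ker.1 hx, add_zero, map_smul, map_zero, smul_eq_mul] at this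
        exact (mul_eq_zero.1 this).resolve_right hv)
      (fun z => ⟨-(φ z / φ v), by simp [LinearMap.mem_ker, hv]⟩)
    refine ⟨b, fun i j hij => ?_⟩
    obtain ⟨j', rfl⟩ := Fin.eq_succ_of_ne_zero (show j ≠ 0 from Fin.ne_zero_of_lt hij)
    have hbs : b j'.succ = (b' j' : V) := by simp [b]
    set w : LinearMap.ker φ := f.restrict (fun x hx => by
        simp only [LinearMap.mem_ker] at hx ⊢
        rw [hφe, hx, mul_zero]) (b' j') with hw
    have hfw : f (b' j' : V) = ∑ k : Fin m, b'.repr w k • b k.succ := by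
      have := congrArg Subtype.val (b'.sum_repr w)
      rw [Submodule.coe_sum] at this
      rw [show f (b' j' : V) = (w : V) from rfl, ← this]
      simp [b]
    rw [LinearMap.toMatrix_apply, hbs, hfw, map_sum, Finsupp.coe_finsetSum, Finset.sum_apply]
    refine Finset.sum_eq_zero fun k _ => ?_
    rw [map_smul, Finsupp.smul_apply, Basis.repr_self, Finsupp.single_apply]
    split_ifs with hk
    · subst hk
      have := hb' k j' (Fin.succ_lt_succ_iff.1 hij)
      rw [LinearMap.toMatrix_apply] at this
      rw [this, zero_smul]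
    · simp

open Polynomial in
theorem charpolyRev_lowerTriangular {m : ℕ} (U : Matrix (Fin m) (Fin m) A) (hU : ∀ i j, i < j → U i j = 0) :
    U.charpolyRev = ∏ i, (1 - X * Polynomial.C (U i i)) := by
  rw [Matrix.charpolyRev, Matrix.det_of_lowerTriangular]
  · simp
  · intro i j hij
    have hij' : i < j := hij
    simp [Matrix.one_apply, hij'.ne, hU i j hij']

theorem T_lowerTriangular {m : ℕ} (U : Matrix (Fin m) (Fin m) A) (hU : ∀ i j, i < j → U i j = 0) :
    T n U = ∑ μ : Sym (Fin m) n, (μ.1.map fun a => U a a).prod := by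
  refine Finset.sum_congr rfl fun μ _ => ?_
  rw [Finset.sum_eq_single (sec μ)]
  · rw [if_pos (cls_sec μ)]
    conv_rhs => rw [← cls_sec μ]
    simp [cls, Finset.prod, Function.comp_def]
  · intro g _ hg
    by_cases h : cls g = μ
    · rw [if_pos h]
      by_cases hle : ∀ i, g i ≤ sec μ i
      · exfalso
        apply hg
        have e : cls g = cls (sec μ) := by rw [h, cls_sec]
        have hs := congrArg (fun s : Sym (Fin m) n => (s.1.map Fin.val).sum) e
        simp only [cls, Multiset.map_map] at hs
        have hs' : ∑ i : Fin n, (g i).val = ∑ i : Fin n, (sec μ i).val := hs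
        funext i
        exact Fin.ext ((Finset.sum_eq_sum_iff_of_le (fun i _ => Fin.le_def.1 (hle i))).1 hs' i (Finset.mem_univ i))
      · push_neg at hle
        obtain ⟨i, hi⟩ := hle
        exact Finset.prod_eq_zero (Finset.mem_univ i) (hU _ _ hi)
    · rw [if_neg h]
  · simp

theorem mk_sum_sym (d : ι → A) :
    (PowerSeries.mk fun n => ∑ μ : Sym ι n, (μ.1.map d).prod) = ∏ i, PowerSeries.mk fun k => d i ^ k := by
  ext n
  rw [PowerSeries.coeff_mk, PowerSeries.coeff_prod]
  simp only [PowerSeries.coeff_mk]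
  refine Finset.sum_bij' (fun μ _ => Multiset.toFinsupp μ.1)
    (fun l hl => ⟨Finsupp.toMultiset l, ?_⟩) ?_ ?_ ?_ ?_ ?_
  · simp only [Finset.mem_finsuppAntidiag] at hl
    rw [Finsupp.card_toMultiset, ← hl.1]
    exact Finsupp.sum_fintype _ _ (fun _ => rfl)
  · intro μ _
    simp only [Finset.mem_finsuppAntidiag, Finset.subset_univ, and_true, Multiset.toFinsupp_apply]
    rw [Multiset.sum_count_eq_card (fun a _ => Finset.mem_univ a)]
    exact μ.2
  · intro l hl; exact Finset.mem_univ _
  · intro μ _; apply Sym.ext; simp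
  · intro l hl; simp
  · intro μ _
    rw [Finset.prod_multiset_map_count]
    simp only [Multiset.toFinsupp_apply]
    exact Finset.prod_subset (Finset.subset_univ _) fun x _ hx => by
      rw [Multiset.count_eq_zero.2 (fun h => hx (Multiset.mem_toFinset.2 h)), pow_zero]

theorem one_sub_mul_mk (d : A) :
    ((1 - Polynomial.X * Polynomial.C d : Polynomial A) : PowerSeries A) * PowerSeries.mk (fun k => d ^ k) = 1 := by
  ext k
  simp only [Polynomial.coe_sub, Polynomial.coe_one, Polynomial.coe_mul, Polynomial.coe_X, Polynomial.coe_C,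
    sub_mul, one_mul, map_sub]
  cases k with
  | zero => simp
  | succ k => simp [mul_assoc, pow_succ']

theorem series_lowerTriangular {m : ℕ} (U : Matrix (Fin m) (Fin m) A) (hU : ∀ i j, i < j → U i j = 0) :
    (U.charpolyRev : PowerSeries A) * PowerSeries.mk (fun k => T k U) = 1 := by
  rw [charpolyRev_lowerTriangular U hU]
  simp only [T_lowerTriangular U hU]
  rw [mk_sum_sym, ← Polynomial.coeToPowerSeries.ringHom_apply, map_prod, ← Finset.prod_mul_distrib]
  exact Finset.prod_eq_one fun i _ => one_sub_mul_mk _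

theorem series_complex {m : ℕ} (U : Matrix (Fin m) (Fin m) ℂ) :
    (U.charpolyRev : PowerSeries ℂ) * PowerSeries.mk (fun k => T k U) = 1 := by
  set f : (Fin m → ℂ) →ₗ[ℂ] (Fin m → ℂ) := Matrix.toLin' U with hf
  have hU : LinearMap.toMatrix (Pi.basisFun ℂ (Fin m)) (Pi.basisFun ℂ (Fin m)) f = U := by
    rw [LinearMap.toMatrix_eq_toMatrix', hf, LinearMap.toMatrix'_toLin']
  obtain ⟨b, hb⟩ := exists_lowerTriangular (K := ℂ) m (Fin m → ℂ) (by simp) f
  have h1 : U.charpolyRev = (LinearMap.toMatrix b b f).charpolyRev := by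
    rw [← hU, ← detOneSub_eq, ← detOneSub_eq]
  have h2 : ∀ k, T k U = T k (LinearMap.toMatrix b b f) := fun k => by
    obtain ⟨γ, hγ⟩ := exists_gamma (n := k) f
    rw [← hU, ← trace_eq_T _ f γ hγ, ← trace_eq_T _ f γ hγ]
  simp only [h1, h2]
  exact series_lowerTriangular _ hb

theorem map_series {B : Type*} [CommRing B] (φ : A →+* B) (U : Matrix ι ι A) :
    PowerSeries.map φ ((U.charpolyRev : PowerSeries A) * PowerSeries.mk (fun k => T k U)) =
      ((U.map φ).charpolyRev : PowerSeries B) * PowerSeries.mk (fun k => T k (U.map φ)) := by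
  rw [map_mul]
  congr 1
  · rw [← Polynomial.polynomial_map_coe]
    congr 1
    rw [Matrix.charpolyRev, Matrix.charpolyRev, ← Polynomial.coe_mapRingHom, RingHom.map_det]
    congr 1
    ext i j : 2
    by_cases h : i = j <;> simp [Matrix.one_apply, h]
  · ext k
    simp [map_T]

theorem series_generic (m : ℕ) :
    let U := Matrix.mvPolynomialX (Fin m) (Fin m) ℤ
    (U.charpolyRev : PowerSeries (MvPolynomial (Fin m × Fin m) ℤ)) * PowerSeries.mk (fun k => T k U) = 1 := by
  intro U
  ext N : 1
  apply MvPolynomial.map_injective (Int.castRingHom ℂ) Int.cast_injective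
  apply MvPolynomial.funext
  intro x
  rw [MvPolynomial.eval_map, MvPolynomial.eval_map]
  show (MvPolynomial.eval₂Hom (Int.castRingHom ℂ) x) _ = (MvPolynomial.eval₂Hom (Int.castRingHom ℂ) x) _
  rw [← PowerSeries.coeff_map, ← PowerSeries.coeff_map, map_series, series_complex, map_one (PowerSeries.map _)]

theorem series_eq_one {m : ℕ} (U : Matrix (Fin m) (Fin m) A) :
    (U.charpolyRev : PowerSeries A) * PowerSeries.mk (fun k => T k U) = 1 := by
  have h := congrArg (PowerSeries.map (MvPolynomial.eval₂Hom (Int.castRingHom A) fun p => U p.1 p.2))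
    (series_generic m)
  rw [map_series, map_one] at h
  convert h using 4 <;> simp [Matrix.mvPolynomialX_map_eval₂]

theorem detOneSub_mul_trace [Module.Free A M] [Module.Finite A M] (u : M →ₗ[A] M)
    (γ : ∀ n : ℕ, SymT A M n →ₗ[A] SymT A M n)
    (hγ : ∀ (n : ℕ) (x : SymT A M n),
      (γ n x : ⨂[A] _i : Fin n, M) = PiTensorProduct.map (fun _ : Fin n => u) x.1) :
    (↑(SGA4h.detOneSub (ModuleCat.of A M) (ModuleCat.ofHom u)) : PowerSeries A) *
      PowerSeries.mk (fun n => LinearMap.trace A _ (γ n)) = 1 := by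
  cases subsingleton_or_nontrivial A
  · exact Subsingleton.elim _ _
  let b : Basis (Fin (finrank A M)) A M := Module.finBasis A M
  rw [detOneSub_eq b u]
  simp only [fun k => trace_eq_T b u (γ k) (hγ k)]
  exact series_eq_one _

end

end Groth.Agent.SymTraceLib
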